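import Mathlib
import Groth.Agent.Lib.Helper8.FlatMod5
import Groth.Agent.Lib.Helper8.HensFC1

/-!
# Associated primes of `N ⊗_R M` for `N` flat over `R` (helper5): the local statements
-/

set_option autoImplicit false
universe u
open IsLocalRing TensorProduct

namespace Groth.Agent.Lib.Helper5.FibAss

open Groth.Agent.Helper8.FlatMod Groth.Agent.Helper8.Depth LocCoh

variable {R S : Type u} [CommRing R] [CommRing S] [IsLocalRing R] [IsLocalRing S]
  [IsNoetherianRing R] [IsNoetherianRing S] [Algebra R S] [IsLocalHom (algebraMap R S)]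
  (M : Type u) [AddCommGroup M] [Module R M] [Module.Finite R M]
  (N : Type u) [AddCommGroup N] [Module S N] [Module R N] [IsScalarTower R S N]
  [Module.Finite S N] [Module.Flat R N]

/-- **the maximal ideal of `S` is associated to `N ⊗_R M` iff the maximal ideal of `R` is
associated to `M` and the maximal ideal of `S` is associated to the fibre `N / m_R N`** -/
theorem maximalIdeal_mem_ass_tensor_iff :
    maximalIdeal S ∈ associatedPrimes S (N ⊗[R] M) ↔
      maximalIdeal R ∈ associatedPrimes R M ∧ maximalIdeal S ∈ associatedPrimes S (Fib R S N) := by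
  haveI : Module.Finite S (N ⊗[R] M) := finite_tensorProduct M
  rw [← depth_eq_zero_iff S (N ⊗[R] M), ← depth_eq_zero_iff R M, ← depth_eq_zero_iff S (Fib R S N),
    depth_formula N M, add_eq_zero]

/-- the map `n ↦ n ⊗ x` -/
noncomputable def tmulRight (x : M) : N →ₗ[S] N ⊗[R] M where
  toFun n := n ⊗ₜ[R] x
  map_add' a b := TensorProduct.add_tmul a b x
  map_smul' s n := (TensorProduct.smul_tmul' s n x).symm

/-- if the maximal ideal of `R` is associated to `M`, the fibre `N / m_R N` embeds into `N ⊗_R M` -/
theorem exists_injective_fib (hM : maximalIdeal R ∈ associatedPrimes R M) :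
    ∃ φ : Fib R S N →ₗ[S] N ⊗[R] M, Function.Injective φ := by
  obtain ⟨-, x, hx⟩ := (Submodule.isAssociatedPrime_iff).mp hM
  have hxm : ∀ a ∈ maximalIdeal R, a • x = 0 := by
    intro a ha
    rw [hx, Submodule.mem_colon_singleton, Submodule.mem_bot] at ha
    exact ha
  have hle : (maximalIdeal R).map (algebraMap R S) • (⊤ : Submodule S N) ≤
      LinearMap.ker (tmulRight (R := R) (S := S) M N x) := by
    intro n hn
    rw [← mem_smul_top_iff (R := R) (S := S)] at hn
    exact tmul_eq_zero_of_mem_smul_top (R := R) (N := N) x hxm hn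
  refine ⟨Submodule.liftQ _ (tmulRight (R := R) (S := S) M N x) hle, ?_⟩
  rw [← LinearMap.ker_eq_bot, Submodule.ker_liftQ_eq_bot']
  apply le_antisymm hle
  intro n hn
  have h1 : n ⊗ₜ[R] x = 0 := hn
  have := mem_smul_top_of_tmul_eq_zero (R := R) (N := N) x hx h1
  rwa [mem_smul_top_iff (R := R) (S := S)] at this

theorem ass_fib_subset (hM : maximalIdeal R ∈ associatedPrimes R M) :
    associatedPrimes S (Fib R S N) ⊆ associatedPrimes S (N ⊗[R] M) := by
  obtain ⟨φ, hφ⟩ := exists_injective_fib (R := R) (S := S) M N hM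
  exact associatedPrimes.subset_of_injective hφ

end Groth.Agent.Lib.Helper5.FibAss
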