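import Mathlib
import Groth.Prelude.Def_FDesc
import Groth.Prelude.Def_CohB1
import Groth.Agent.Lib.Helper5.FibAss.Alg
import Groth.Agent.Lib.Helper5.Stalk.Pull
import Groth.Agent.Lib.Helper5.StalkTen.StalkTenS
import Groth.Agent.Lib.Helper3.FibStalk
import Groth.Agent.Lib.Helper7.CohStalk.Finite
import Groth.Agent.Lib.Helper8.ExtScal

/-!
# Associated points of `f^*E ⊗ F` for `F` flat over the base (helper5): the stalk dictionary
-/

set_option autoImplicit false
set_option linter.unusedSectionVars false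
set_option linter.unusedVariables false
set_option backward.isDefEq.respectTransparency.types false
universe u
open CategoryTheory CategoryTheory.Limits AlgebraicGeometry TopologicalSpace TensorProduct IsLocalRing
open Groth.Agent.Lib.Helper5.StalkAdj Groth.Agent.Lib.Helper5.StalkTenS

namespace Groth.Agent.Lib.Helper5.FibAss

variable {X Y : Scheme.{u}} (f : X ⟶ Y)

/-- `x` is an associated point of the restriction of `F` to the fibre of `f` through `x`, in terms
of the stalk of `F` at `x`: the maximal ideal of `O_{X,x}` is associated to `F_x / m_{f x} F_x` -/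
def FibAssAt (F : X.Modules) (x : X) : Prop :=
  maximalIdeal (X.presheaf.stalk x) ∈ associatedPrimes (X.presheaf.stalk x)
    (F.presheaf.stalk x ⧸ ((maximalIdeal (Y.presheaf.stalk (f x))).map (f.stalkMap x).hom •
      (⊤ : Submodule (X.presheaf.stalk x) (F.presheaf.stalk x))))

/-- the associated primes of the stalk of `f^*E ⊗ F` -/
theorem ass_stalk_tensor (E : Y.Modules) (F : X.Modules) (x : X) :
    letI := (f.stalkMap x).hom.toAlgebra
    letI := FlatMod.moduleStalkOver f F x
    haveI : IsScalarTower (Y.presheaf.stalk (f x)) (X.presheaf.stalk x) (F.presheaf.stalk x) :=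
      IsScalarTower.of_compHom _ _ _
    associatedPrimes (X.presheaf.stalk x)
      ((CohB1.tensorMod ((Scheme.Modules.pullback f).obj E) F).presheaf.stalk x) =
    associatedPrimes (X.presheaf.stalk x)
      ((F.presheaf.stalk x) ⊗[Y.presheaf.stalk (f x)] (E.presheaf.stalk (f x))) := by
  letI alg : Algebra (Y.presheaf.stalk (f x)) (X.presheaf.stalk x) := (f.stalkMap x).hom.toAlgebra
  letI mA : Module (Y.presheaf.stalk (f x)) (F.presheaf.stalk x) := FlatMod.moduleStalkOver f F x
  haveI : IsScalarTower (Y.presheaf.stalk (f x)) (X.presheaf.stalk x) (F.presheaf.stalk x) :=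
    IsScalarTower.of_compHom _ _ _
  let G := (Scheme.Modules.pullback f).obj E
  let e0 : (CohB1.tensorMod G F).presheaf.stalk x ≃ₗ[X.presheaf.stalk x]
      (G.presheaf.stalk x) ⊗[X.presheaf.stalk x] (F.presheaf.stalk x) :=
    (stalkTensorIsoS X x G F).toLinearEquiv
  let e1 : (G.presheaf.stalk x) ≃ₗ[X.presheaf.stalk x]
      ((ModuleCat.extendScalars.{u, u, u} (f.stalkMap x).hom).obj
        ((stalkSh Y (f x)).obj E)) := ((stalkPullbackIso f x).app E).toLinearEquiv
  let e2 : ((ModuleCat.extendScalars.{u, u, u} (f.stalkMap x).hom).obj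
      ((stalkSh Y (f x)).obj E)) ≃ₗ[X.presheaf.stalk x]
      ((X.presheaf.stalk x) ⊗[Y.presheaf.stalk (f x)] (E.presheaf.stalk (f x))) :=
    Groth.Agent.Helper8.extScalEquiv (R := Y.presheaf.stalk (f x))
      (S := X.presheaf.stalk x) ((stalkSh Y (f x)).obj E)
  let e3 : (G.presheaf.stalk x) ⊗[X.presheaf.stalk x] (F.presheaf.stalk x) ≃ₗ[X.presheaf.stalk x]
      ((X.presheaf.stalk x) ⊗[Y.presheaf.stalk (f x)] (E.presheaf.stalk (f x)))
        ⊗[X.presheaf.stalk x] (F.presheaf.stalk x) :=
    TensorProduct.congr (e1 ≪≫ₗ e2) (LinearEquiv.refl _ _)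
  let e4 : ((X.presheaf.stalk x) ⊗[Y.presheaf.stalk (f x)] (E.presheaf.stalk (f x)))
        ⊗[X.presheaf.stalk x] (F.presheaf.stalk x) ≃ₗ[X.presheaf.stalk x]
      (F.presheaf.stalk x) ⊗[X.presheaf.stalk x]
        ((X.presheaf.stalk x) ⊗[Y.presheaf.stalk (f x)] (E.presheaf.stalk (f x))) :=
    TensorProduct.comm _ _ _
  let e5 : (F.presheaf.stalk x) ⊗[X.presheaf.stalk x]
        ((X.presheaf.stalk x) ⊗[Y.presheaf.stalk (f x)] (E.presheaf.stalk (f x)))
      ≃ₗ[X.presheaf.stalk x]
      (F.presheaf.stalk x) ⊗[Y.presheaf.stalk (f x)] (E.presheaf.stalk (f x)) :=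
    TensorProduct.AlgebraTensorModule.cancelBaseChange (Y.presheaf.stalk (f x))
      (X.presheaf.stalk x) (X.presheaf.stalk x) (F.presheaf.stalk x) (E.presheaf.stalk (f x))
  exact LinearEquiv.AssociatedPrimes.eq (e0 ≪≫ₗ e3 ≪≫ₗ e4 ≪≫ₗ e5)

/-- **associated points of `f^*E ⊗ F`**, for coherent `E`, `F` on locally Noetherian schemes with
`F` flat over the base at `x` -/
theorem isAssPoint_tensor_iff [IsLocallyNoetherian X] [IsLocallyNoetherian Y]
    (E : Y.Modules) (hE : Coh.IsCoh E) (F : X.Modules) (hF : Coh.IsCoh F) (x : X)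
    (hfl : FlatMod.IsFlatOverAt f F x) :
    Curv2.IsAssPoint (CohB1.tensorMod ((Scheme.Modules.pullback f).obj E) F) x ↔
      Curv2.IsAssPoint E (f x) ∧ FibAssAt f F x := by
  letI alg : Algebra (Y.presheaf.stalk (f x)) (X.presheaf.stalk x) := (f.stalkMap x).hom.toAlgebra
  haveI hloc : IsLocalHom (algebraMap (Y.presheaf.stalk (f x)) (X.presheaf.stalk x)) :=
    (inferInstance : IsLocalHom (f.stalkMap x).hom)
  letI mA : Module (Y.presheaf.stalk (f x)) (F.presheaf.stalk x) := FlatMod.moduleStalkOver f F x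
  haveI : IsScalarTower (Y.presheaf.stalk (f x)) (X.presheaf.stalk x) (F.presheaf.stalk x) :=
    IsScalarTower.of_compHom _ _ _
  haveI hfinF : Module.Finite (X.presheaf.stalk x) (F.presheaf.stalk x) :=
    Groth.Agent.Helper7.FinType.stalk_finite_of_isCoh F hF x
  haveI hfinE : Module.Finite (Y.presheaf.stalk (f x)) (E.presheaf.stalk (f x)) :=
    Groth.Agent.Helper7.FinType.stalk_finite_of_isCoh E hE (f x)
  haveI : Module.Flat (Y.presheaf.stalk (f x)) (F.presheaf.stalk x) := hfl
  have h1 : Curv2.IsAssPoint (CohB1.tensorMod ((Scheme.Modules.pullback f).obj E) F) x ↔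
      maximalIdeal (X.presheaf.stalk x) ∈ associatedPrimes (X.presheaf.stalk x)
        ((F.presheaf.stalk x) ⊗[Y.presheaf.stalk (f x)] (E.presheaf.stalk (f x))) := by
    rw [← ass_stalk_tensor f E F x]
    rfl
  rw [h1, maximalIdeal_mem_ass_tensor_iff]
  rfl

/-- a point of the support of `F` over an associated point of `E` has a generization in the same
fibre which is an associated prime of the stalk of `f^*E ⊗ F` -/
theorem exists_ass_stalk [IsLocallyNoetherian X] [IsLocallyNoetherian Y]
    (E : Y.Modules) (hE : Coh.IsCoh E) (F : X.Modules) (hF : Coh.IsCoh F) (x : X)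
    (hfl : FlatMod.IsFlatOverAt f F x) (hx : x ∈ CohB1.support F)
    (hy : Curv2.IsAssPoint E (f x)) :
    ∃ q : PrimeSpectrum (X.presheaf.stalk x),
      q.asIdeal ∈ associatedPrimes (X.presheaf.stalk x)
        ((CohB1.tensorMod ((Scheme.Modules.pullback f).obj E) F).presheaf.stalk x) ∧
      q.asIdeal.comap (f.stalkMap x).hom = maximalIdeal (Y.presheaf.stalk (f x)) := by
  letI alg : Algebra (Y.presheaf.stalk (f x)) (X.presheaf.stalk x) := (f.stalkMap x).hom.toAlgebra
  haveI hloc : IsLocalHom (algebraMap (Y.presheaf.stalk (f x)) (X.presheaf.stalk x)) :=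
    (inferInstance : IsLocalHom (f.stalkMap x).hom)
  letI mA : Module (Y.presheaf.stalk (f x)) (F.presheaf.stalk x) := FlatMod.moduleStalkOver f F x
  haveI : IsScalarTower (Y.presheaf.stalk (f x)) (X.presheaf.stalk x) (F.presheaf.stalk x) :=
    IsScalarTower.of_compHom _ _ _
  haveI hfinF : Module.Finite (X.presheaf.stalk x) (F.presheaf.stalk x) :=
    Groth.Agent.Helper7.FinType.stalk_finite_of_isCoh F hF x
  haveI hfinE : Module.Finite (Y.presheaf.stalk (f x)) (E.presheaf.stalk (f x)) :=
    Groth.Agent.Helper7.FinType.stalk_finite_of_isCoh E hE (f x)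
  haveI : Module.Flat (Y.presheaf.stalk (f x)) (F.presheaf.stalk x) := hfl
  haveI : Nontrivial (F.presheaf.stalk x) := not_subsingleton_iff_nontrivial.mp hx
  haveI := Groth.Agent.Helper8.FlatMod.nontrivial_fib (R := Y.presheaf.stalk (f x))
    (S := X.presheaf.stalk x) (F.presheaf.stalk x)
  obtain ⟨q, hq⟩ := associatedPrimes.nonempty (X.presheaf.stalk x)
    (Groth.Agent.Helper8.FlatMod.Fib (Y.presheaf.stalk (f x)) (X.presheaf.stalk x)
      (F.presheaf.stalk x))
  haveI hqp : q.IsPrime := hq.isPrime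
  refine ⟨⟨q, hqp⟩, ?_, ?_⟩
  · rw [ass_stalk_tensor f E F x]
    exact ass_fib_subset (E.presheaf.stalk (f x)) (F.presheaf.stalk x) hy hq
  · have h1 : (maximalIdeal (Y.presheaf.stalk (f x))).map (f.stalkMap x).hom ≤ q := by
      have h2 := IsAssociatedPrime.annihilator_le hq
      rw [Submodule.annihilator_top] at h2
      refine le_trans ?_ h2
      intro s hs
      rw [Module.mem_annihilator]
      intro n
      obtain ⟨n, rfl⟩ := Submodule.Quotient.mk_surjective _ n
      rw [← Submodule.Quotient.mk_smul, Submodule.Quotient.mk_eq_zero]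
      exact Submodule.smul_mem_smul hs Submodule.mem_top
    have h3 : maximalIdeal (Y.presheaf.stalk (f x)) ≤ q.comap (f.stalkMap x).hom :=
      Ideal.map_le_iff_le_comap.1 h1
    exact ((maximalIdeal.isMaximal _).eq_of_le (Ideal.comap_ne_top _ hqp.ne_top) h3).symm

/-- associated primes along a surjection of local rings: the maximal ideals correspond -/
theorem maximalIdeal_mem_ass_iff_of_surjective {S T : Type u} [CommRing S] [CommRing T]
    [IsLocalRing S] [IsLocalRing T] [Algebra S T] (hs : Function.Surjective (algebraMap S T))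
    (P : Type u) [AddCommGroup P] [Module S P] [Module T P] [IsScalarTower S T P] :
    maximalIdeal T ∈ associatedPrimes T P ↔ maximalIdeal S ∈ associatedPrimes S P := by
  haveI : IsLocalHom (algebraMap S T) := IsLocalHom.of_surjective _ hs
  have hc : (maximalIdeal T).comap (algebraMap S T) = maximalIdeal S :=
    ((IsLocalRing.local_hom_TFAE (algebraMap S T)).out 0 4 rfl rfl).mp inferInstance
  rw [Groth.Agent.Helper8.HensFC.associatedPrimes_eq_image_comap hs P]
  constructor
  · intro h
    exact ⟨_, h, hc⟩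
  · rintro ⟨Q, hQ, hQc⟩
    have : Q = maximalIdeal T := Ideal.comap_injective_of_surjective _ hs (hQc.trans hc.symm)
    rwa [← this]

/-- **associated points of the restriction of `F` to a fibre**, in terms of the stalks of `F` -/
theorem isAssPoint_fibre_iff (F : X.Modules) (y : Y) (z : f.fiber y) :
    Curv2.IsAssPoint ((Scheme.Modules.pullback (f.fiberι y)).obj F) z ↔
      FibAssAt f F (f.fiberι y z) := by
  letI algST : Algebra (X.presheaf.stalk (f.fiberι y z)) ((f.fiber y).presheaf.stalk z) :=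
    ((f.fiberι y).stalkMap z).hom.toAlgebra
  have hsurj : Function.Surjective (algebraMap (X.presheaf.stalk (f.fiberι y z))
      ((f.fiber y).presheaf.stalk z)) := (f.fiberι y).stalkMap_surjective z
  have hker : RingHom.ker (algebraMap (X.presheaf.stalk (f.fiberι y z))
      ((f.fiber y).presheaf.stalk z)) =
      (maximalIdeal (Y.presheaf.stalk (f (f.fiberι y z)))).map (f.stalkMap (f.fiberι y z)).hom :=
    Groth.Agent.Helper3.FibStalk.ker_stalkMap_fiberι f y z
  let G := (Scheme.Modules.pullback (f.fiberι y)).obj F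
  let e1 : (G.presheaf.stalk z) ≃ₗ[(f.fiber y).presheaf.stalk z]
      ((ModuleCat.extendScalars.{u, u, u} ((f.fiberι y).stalkMap z).hom).obj
        ((stalkSh X (f.fiberι y z)).obj F)) :=
    ((stalkPullbackIso (f.fiberι y) z).app F).toLinearEquiv
  let e2 : ((ModuleCat.extendScalars.{u, u, u} ((f.fiberι y).stalkMap z).hom).obj
      ((stalkSh X (f.fiberι y z)).obj F)) ≃ₗ[(f.fiber y).presheaf.stalk z]
      (((f.fiber y).presheaf.stalk z) ⊗[X.presheaf.stalk (f.fiberι y z)]
        (F.presheaf.stalk (f.fiberι y z))) :=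
    Groth.Agent.Helper8.extScalEquiv (R := X.presheaf.stalk (f.fiberι y z))
      (S := (f.fiber y).presheaf.stalk z) ((stalkSh X (f.fiberι y z)).obj F)
  have h1 : Curv2.IsAssPoint G z ↔ maximalIdeal ((f.fiber y).presheaf.stalk z) ∈
      associatedPrimes ((f.fiber y).presheaf.stalk z)
        (((f.fiber y).presheaf.stalk z) ⊗[X.presheaf.stalk (f.fiberι y z)]
          (F.presheaf.stalk (f.fiberι y z))) :=
    LinearEquiv.isAssociatedPrime_iff (e1 ≪≫ₗ e2)
  rw [h1, maximalIdeal_mem_ass_iff_of_surjective hsurj]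
  -- the quotient description
  let eT : ((f.fiber y).presheaf.stalk z) ≃ₗ[X.presheaf.stalk (f.fiberι y z)]
      (X.presheaf.stalk (f.fiberι y z) ⧸ RingHom.ker (algebraMap (X.presheaf.stalk (f.fiberι y z))
        ((f.fiber y).presheaf.stalk z))) :=
    (Ideal.quotientKerAlgEquivOfSurjective (f := Algebra.ofId (X.presheaf.stalk (f.fiberι y z))
      ((f.fiber y).presheaf.stalk z)) hsurj).symm.toLinearEquiv
  let e3 : (((f.fiber y).presheaf.stalk z) ⊗[X.presheaf.stalk (f.fiberι y z)]
        (F.presheaf.stalk (f.fiberι y z))) ≃ₗ[X.presheaf.stalk (f.fiberι y z)]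
      (F.presheaf.stalk (f.fiberι y z) ⧸ (RingHom.ker (algebraMap (X.presheaf.stalk (f.fiberι y z))
        ((f.fiber y).presheaf.stalk z)) •
        (⊤ : Submodule (X.presheaf.stalk (f.fiberι y z)) (F.presheaf.stalk (f.fiberι y z))))) :=
    TensorProduct.congr eT (LinearEquiv.refl _ _) ≪≫ₗ TensorProduct.quotTensorEquivQuotSMul _ _
  have h2 := LinearEquiv.isAssociatedPrime_iff (I := maximalIdeal (X.presheaf.stalk (f.fiberι y z))) e3
  refine h2.trans ?_
  unfold FibAssAt
  rw [hker]
  rfl


end Groth.Agent.Lib.Helper5.FibAss
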